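import Cfsg.Agent.Lib.Lie.MultExc.Tits.P5

/-!
The elements of order five of the Tits group: certificate for the normaliser of a Sylow subgroup.
-/

set_option autoImplicit false
set_option maxRecDepth 100000
set_option maxHeartbeats 0

namespace CfsgLib.Lie.TitsTwoTrans

open CfsgLib.Spor.SchurCert CfsgLib.Lie.MultExc CfsgLib.Lie.MultExc.Tits
open Cfsg.Lie CfsgLib.Lie.Chev

attribute [local instance] MultExc.Tits.actTG

/-- An element of order three normalising the Sylow subgroup. -/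
def gw3 : List ℕ := [232, 193, 258]

/-- The images of the Sylow words under it. -/
def img3 : List (List ℕ) := [[0, 0, 0, 0, 1], [0, 0, 0, 0]]

/-- Words moving the first Sylow word into each of the six lines. -/
def hws : List (List ℕ) :=
  [[], [232, 193, 258], [308, 4, 228], [242, 124, 18, 33], [91, 161, 56, 36], [201, 51, 229, 277, 55]]

/-- For each element of the subgroup, a word and an exponent. -/
def htab : List (ℕ × ℕ) :=
  [(0, 0), (5, 3), (5, 1), (5, 4), (5, 2), (0, 1), (2, 1), (3, 1), (4, 2), (1, 4), (0, 2), (4, 4), (2, 2), (1, 3),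
    (3, 2), (0, 3), (3, 3), (1, 2), (2, 3), (4, 1), (0, 4), (1, 1), (4, 3), (3, 4), (2, 4)]

/-- The exponent word of an element of the subgroup. -/
def pij (i j : ℕ) : List ℕ := List.replicate i 0 ++ List.replicate j 1

/-- The checks. -/
def chk : Bool :=
  sameV eltStep eltLen unitCodes (spell P5.sw (List.replicate 5 0)) [] &&
  sameV eltStep eltLen unitCodes (spell P5.sw (List.replicate 5 1)) [] &&
  sameV eltStep eltLen unitCodes (spell P5.sw [1, 0]) (spell P5.sw [0, 1]) &&
  sameV eltStep eltLen unitCodes (gw3 ++ gw3 ++ gw3) [] &&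
  sameV eltStep eltLen unitCodes (gw3 ++ spell P5.sw [0]) (spell P5.sw (img3.getD 0 []) ++ gw3) &&
  sameV eltStep eltLen unitCodes (gw3 ++ spell P5.sw [1]) (spell P5.sw (img3.getD 1 []) ++ gw3) &&
  (unitCodes.any fun u => !(Nat.beq (walkV eltStep gw3 u) u)) &&
  (List.range 5).all fun i => (List.range 5).all fun j => (Nat.beq i 0 && Nat.beq j 0) ||
    (Nat.blt 0 (htab.getD (5 * i + j) (0, 0)).2 && Nat.blt (htab.getD (5 * i + j) (0, 0)).2 5 &&
      sameV eltStep eltLen unitCodes
        (hws.getD (htab.getD (5 * i + j) (0, 0)).1 [] ++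
          spell P5.sw (List.replicate (htab.getD (5 * i + j) (0, 0)).2 0))
        (spell P5.sw (pij i j) ++ hws.getD (htab.getD (5 * i + j) (0, 0)).1 []))

theorem chk_ok : chk = true := by decide +kernel

set_option maxHeartbeats 1000000

theorem wv_rep {G : Type*} [Group G] (γ : ℕ → G) (k i : ℕ) : wv γ (List.replicate k i) = γ i ^ k := by
  induction k with
  | zero => simp [wv_nil]
  | succ k ih => rw [List.replicate_succ, wv_cons, ih, pow_succ']

theorem wv_app {G : Type*} [Group G] (γ : ℕ → G) : ∀ u v : List ℕ, wv γ (u ++ v) = wv γ u * wv γ v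
  | [], v => by simp [wv_nil]
  | a :: u, v => by rw [List.cons_append, wv_cons, wv_cons, wv_app γ u v, mul_assoc]

theorem pow_mod_five {G : Type*} [Group G] {x : G} (hx : x ^ 5 = 1) (k : ℕ) : x ^ k = x ^ (k % 5) := by
  conv_lhs => rw [← Nat.mod_add_div k 5, pow_add, pow_mul, hx, one_pow, mul_one]

/-- The facts at the prime five, in a general group. -/
theorem five_of {G : Type*} [Group G] {a b g : G} (a5 : a ^ 5 = 1) (b5 : b ^ 5 = 1) (hcomm : Commute b a)
    (hlow : ∀ S : Subgroup G, a ∈ S → b ∈ S → 25 ≤ Nat.card S) (hg : g ≠ 1) (hg3 : g * g * g = 1)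
    (hga : g * a * g⁻¹ = a * (a * (a * (a * b)))) (hgb : g * b * g⁻¹ = a * (a * (a * a)))
    (hconj : ∀ i < 5, ∀ j < 5, ¬ (i = 0 ∧ j = 0) → ∃ (h : G) (k : ℕ), 0 < k ∧ k < 5 ∧
      h * a ^ k * h⁻¹ = a ^ i * b ^ j) :
    ∃ (P : Subgroup G) (a g : G), Nat.card P = 25 ∧ g ≠ 1 ∧ g ^ 3 = 1 ∧
    (∀ y ∈ P, g * y * g⁻¹ ∈ P) ∧
    ∀ y ∈ P, y ≠ 1 → ∃ h : G, ∃ k m : ℕ, h * a ^ k * h⁻¹ = y ∧ (a ^ k) ^ m = a := by
  let P : Subgroup G :=
    { carrier := {y | ∃ i < 5, ∃ j < 5, y = a ^ i * b ^ j}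
      one_mem' := ⟨0, by norm_num, 0, by norm_num, by simp⟩
      mul_mem' := by
        rintro _ _ ⟨i, -, j, -, rfl⟩ ⟨k, -, l, -, rfl⟩
        refine ⟨(i + k) % 5, Nat.mod_lt _ (by norm_num), (j + l) % 5, Nat.mod_lt _ (by norm_num), ?_⟩
        rw [← pow_mod_five a5, ← pow_mod_five b5, pow_add, pow_add, mul_assoc, mul_assoc,
          ← mul_assoc (b ^ j), (hcomm.pow_pow j k).eq, mul_assoc]
      inv_mem' := by
        rintro _ ⟨i, -, j, -, rfl⟩
        refine ⟨4 * i % 5, Nat.mod_lt _ (by norm_num), 4 * j % 5, Nat.mod_lt _ (by norm_num), ?_⟩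
        rw [← pow_mod_five a5, ← pow_mod_five b5]
        refine inv_eq_of_mul_eq_one_right ?_
        rw [mul_assoc, ← mul_assoc (b ^ j), (hcomm.pow_pow j (4 * i)).eq, mul_assoc, ← mul_assoc,
          ← pow_add, ← pow_add, show i + 4 * i = 5 * i by ring, show j + 4 * j = 5 * j by ring, pow_mul, pow_mul,
          a5, b5, one_pow, one_pow, mul_one] }
  have haP : a ∈ P := ⟨1, by norm_num, 0, by norm_num, by simp⟩
  have hbP : b ∈ P := ⟨0, by norm_num, 1, by norm_num, by simp⟩
  refine ⟨P, a, g, ?_, hg, by rw [pow_succ, pow_two]; exact hg3, ?_, ?_⟩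
  · refine le_antisymm ?_ (hlow P haP hbP)
    let f : Fin 5 × Fin 5 → ↥P := fun x => ⟨a ^ x.1.1 * b ^ x.2.1, x.1.1, x.1.2, x.2.1, x.2.2, rfl⟩
    have hf : Function.Surjective f := by
      rintro ⟨y, i, hi, j, hj, rfl⟩
      exact ⟨(⟨i, hi⟩, ⟨j, hj⟩), rfl⟩
    exact (Nat.card_le_card_of_surjective f hf).trans (by simp)
  · have h1 : g * a * g⁻¹ ∈ P := hga ▸ mul_mem haP (mul_mem haP (mul_mem haP (mul_mem haP hbP)))
    have h2 : g * b * g⁻¹ ∈ P := hgb ▸ mul_mem haP (mul_mem haP (mul_mem haP haP))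
    rintro _ ⟨i, -, j, -, rfl⟩
    rw [← conj_mul, ← conj_pow, ← conj_pow]
    exact mul_mem (pow_mem h1 i) (pow_mem h2 j)
  · rintro _ ⟨i, hi, j, hj, rfl⟩ hy
    obtain ⟨h, k, hk0, hk5, e⟩ := hconj i hi j hj (fun h0 => hy (by simp [h0.1, h0.2]))
    refine ⟨h, k, k ^ 3, e, ?_⟩
    rw [← pow_mul, pow_mod_five a5]
    interval_cases k <;> exact pow_one a

/-- The facts at the prime five. -/
theorem five_facts : ∃ (P : Subgroup TG) (a g : TG), Nat.card P = 25 ∧ g ≠ 1 ∧ g ^ 3 = 1 ∧
    (∀ y ∈ P, g * y * g⁻¹ ∈ P) ∧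
    ∀ y ∈ P, y ≠ 1 → ∃ h : TG, ∃ k m : ℕ, h * a ^ k * h⁻¹ = y ∧ (a ^ k) ^ m = a := by
  haveI : Fact P5.cert.p.Prime := ⟨by rw [show P5.cert.p = 5 from rfl]; norm_num⟩
  haveI := finite_TG
  choose g0 hg using exists_elt
  let gs : ℕ → TG := fun k => if h : k < eltLen then g0 k h else 1
  have K : Coded (G := TG) vecOf (2 ^ 52) gs eltLen eltStep unitCodes :=
    { step_lt := fun k hk c _ => nibStep_lt (hg k hk).1 c
      step_spec := fun k hk c hc => by
        show (matT (gs k)).mulVec (vecOf c) = _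
        rw [show gs k = g0 k hk from dif_pos hk]
        exact acts_spec (hg k hk) hc
      inj := fun c hc d hd h => vecOf_inj hc hd h
      base_lt := fun u hu => by
        obtain ⟨j, hj, rfl⟩ := List.mem_map.1 hu
        exact Nat.pow_lt_pow_right (by norm_num) (List.mem_range.1 hj)
      faithful := fun x hx => by
        refine Subtype.ext (Subtype.ext (Units.ext ?_))
        show matT x = 1
        refine Matrix.ext fun p q => ?_
        have h := congrFun (hx (2 ^ posI q) (List.mem_map.2 ⟨_, List.mem_range.2 (posI_lt q), rfl⟩)) p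
        change (matT x).mulVec (vecOf (2 ^ posI q)) p = vecOf (2 ^ posI q) p at h
        rw [vecOf_unit, Matrix.mulVec_single_one] at h
        exact h.trans (by simp [Matrix.one_apply, Pi.single_apply]) }
  obtain ⟨γ, hγ⟩ : ∃ γ : ℕ → TG, (fun i => ((P5.sw.getD i []).map gs).prod) = γ := ⟨_, rfl⟩
  obtain ⟨gv, hgv⟩ : ∃ gv : List ℕ → TG, (fun w => (w.map gs).prod) = gv := ⟨_, rfl⟩
  have spl : ∀ v : List ℕ, ((spell P5.sw v).map gs).prod = wv γ v := fun v => by rw [prod_spell, hγ]
  have gvl : ∀ w : List ℕ, (w.map gs).prod = gv w := fun w => congrFun hgv w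
  have hc := chk_ok
  simp only [chk, Bool.and_eq_true, List.any_eq_true, Bool.not_eq_true', List.all_eq_true, List.mem_range,
    Bool.or_eq_true] at hc
  obtain ⟨⟨⟨⟨⟨⟨⟨ha5, hb5⟩, hab⟩, hg3⟩, hga⟩, hgb⟩, hne⟩, htab⟩ := hc
  have e := fun {u v : List ℕ} (h : sameV eltStep eltLen unitCodes u v = true) => eq_of_sameV K h
  obtain ⟨a, ha⟩ : ∃ a, γ 0 = a := ⟨_, rfl⟩
  obtain ⟨b, hb⟩ : ∃ b, γ 1 = b := ⟨_, rfl⟩
  have a5 : a ^ 5 = 1 := by
    have := e ha5
    rwa [spl, wv_rep, List.map_nil, List.prod_nil, ha] at this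
  have b5 : b ^ 5 = 1 := by
    have := e hb5
    rwa [spl, wv_rep, List.map_nil, List.prod_nil, hb] at this
  have hcomm : Commute b a := by
    have := e hab
    rw [spl, spl] at this
    simp only [wv_cons, wv_nil, mul_one, ha, hb] at this
    exact this
  refine five_of a5 b5 hcomm (g := gv gw3) ?_ ?_ ?_ ?_ ?_ ?_
  · intro S haS hbS
    have hchk := P5.checks
    simp only [titsChecks, Bool.and_eq_true] at hchk
    obtain ⟨⟨⟨hid, hsub⟩, hT⟩, -⟩ := hchk
    simp only [identVec, Bool.and_eq_true, List.all_eq_true] at hid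
    obtain ⟨⟨⟨-, hswlt⟩, -⟩, -⟩ := hid
    refine le_trans (le_of_eq (by decide +kernel : (25 : ℕ) = P5.cert.p ^ P5.cert.m))
      ((Nat.le_of_ble_eq_true hT).trans (subVec_count K
        (fun s hs x hx => Nat.le_of_ble_eq_true (hswlt s hs x hx)) S ?_ P5.orbits [] (by simp) hsub))
    intro v hv
    rw [spl]
    refine list_prod_mem fun y hy => ?_
    obtain ⟨i, hi, rfl⟩ := List.mem_map.1 hy
    have := hv i hi
    simp only [P5.sw, List.length_cons, List.length_nil] at this
    interval_cases i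
    · exact ha.symm ▸ haS
    · exact hb.symm ▸ hbS
  · obtain ⟨u, hu, hne⟩ := hne
    intro h1
    have hlt : ∀ x ∈ gw3, x < eltLen := by
      simp only [sameV, Bool.and_eq_true, List.all_eq_true] at hg3
      exact fun x hx => Nat.le_of_ble_eq_true (hg3.1 x (List.mem_append_left _ (List.mem_append_left _
        (List.mem_append_left _ hx))))
    obtain ⟨hw1, hw2⟩ := walk_spec K gw3 hlt u (K.base_lt u hu)
    rw [gvl, h1, one_smul] at hw2
    have := K.inj u (K.base_lt u hu) _ hw1 hw2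
    rw [← this, Nat.beq_refl] at hne
    exact absurd hne (by decide)
  · have := e hg3
    rw [List.map_append, List.map_append, List.prod_append, List.prod_append, List.map_nil, List.prod_nil, gvl] at this
    exact this
  · have := e hga
    rw [List.map_append, List.map_append, List.prod_append, List.prod_append, spl, spl, gvl] at this
    simp only [img3, List.getD_cons_zero, wv_cons, wv_nil, mul_one, ha, hb] at this
    exact mul_inv_eq_iff_eq_mul.2 this
  · have := e hgb
    rw [List.map_append, List.map_append, List.prod_append, List.prod_append, spl, spl, gvl] at this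
    simp only [img3, List.getD_cons_zero, List.getD_cons_succ, wv_cons, wv_nil, mul_one, ha, hb] at this
    exact mul_inv_eq_iff_eq_mul.2 this
  · intro i hi j hj h0
    rcases htab i hi j hj with h | ⟨⟨hk0, hk5⟩, hs⟩
    · exact absurd ⟨Nat.eq_of_beq_eq_true h.1, Nat.eq_of_beq_eq_true h.2⟩ h0
    have := e hs
    rw [List.map_append, List.map_append, List.prod_append, List.prod_append, spl, spl, wv_rep, pij,
      wv_app, wv_rep, wv_rep, gvl, ha, hb] at this
    exact ⟨_, _, Nat.le_of_ble_eq_true hk0, Nat.le_of_ble_eq_true hk5, mul_inv_eq_iff_eq_mul.2 this⟩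

end CfsgLib.Lie.TitsTwoTrans
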