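import Mathlib

/-!
A simple group of order `17971200` with the local data of the Tits group has no doubly transitive action.
-/

set_option autoImplicit false

namespace CfsgLib.Lie.TitsTwoTrans

open MulAction

/-- The possible degrees. -/
theorem degrees : ∀ n < 4240, 25 ≤ n → 17971200 % (n * (n - 1)) = 0 →
    n = 25 ∨ n = 26 ∨ n = 27 ∨ n = 40 ∨ n = 65 := by
  have h : ((List.range 4240).all fun n => decide (n < 25) || decide (17971200 % (n * (n - 1)) ≠ 0) ||
      [25, 26, 27, 40, 65].contains n) = true := by decide +kernel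
  intro n hn h25 hd
  have := List.all_eq_true.1 h n (List.mem_range.2 hn)
  simp [hd, Nat.not_lt.2 h25] at this
  exact this

variable {G Ω : Type*} [Group G] [MulAction G Ω]

/-- A subgroup of index prime to `p` contains a conjugate of every element of order `p`. -/
theorem exists_conj_mem [Finite G] {p : ℕ} [Fact p.Prime] (Q : Subgroup G) (hQ : ¬ p ∣ Q.index) {y : G}
    (hy : orderOf y = p) : ∃ w : G, w⁻¹ * y * w ∈ Q := by
  have hp : IsPGroup p ↥(Subgroup.zpowers y) :=
    IsPGroup.of_card (n := 1) (by rw [Nat.card_zpowers, hy, pow_one])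
  obtain ⟨q, hq⟩ := hp.nonempty_fixed_point_of_prime_not_dvd_card (G ⧸ Q) (by rwa [← Subgroup.index_eq_card])
  obtain ⟨w, rfl⟩ := QuotientGroup.mk_surjective q
  have h2 : ((y * w : G) : G ⧸ Q) = (w : G ⧸ Q) := hq ⟨y, Subgroup.mem_zpowers y⟩
  have := QuotientGroup.eq.1 h2.symm
  exact ⟨w, by rwa [← mul_assoc] at this⟩

/-- Conjugates fix equally many points. -/
theorem card_fixed_conj (h x : G) :
    Nat.card (fixedBy Ω (h * x * h⁻¹)) = Nat.card (fixedBy Ω x) := by
  refine (Nat.card_congr ((MulAction.toPerm h).subtypeEquiv fun u => ?_)).symm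
  show x • u = u ↔ (h * x * h⁻¹) • (h • u) = h • u
  rw [smul_smul, inv_mul_cancel_right, mul_smul, smul_left_cancel_iff]

/-- An element fixes the same points as a power generating the same group. -/
theorem fixed_pow {a : G} {k m : ℕ} (h : (a ^ k) ^ m = a) : fixedBy Ω (a ^ k) = fixedBy Ω a := by
  have key : ∀ (x : G) (n : ℕ) (u : Ω), x • u = u → x ^ n • u = u := fun x n u hu => by
    induction n with
    | zero => simp
    | succ n ih => rw [pow_succ, mul_smul, hu, ih]
  ext u
  exact ⟨fun hu => by have := key (a ^ k) m u hu; rwa [h] at this, fun hu => key a k u hu⟩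

/-- In an invariant set the points are congruent to the fixed points. -/
theorem card_invariant [Finite Ω] {p : ℕ} [Fact p.Prime] (y : G) (hy : orderOf y = p) (S : Set Ω)
    (hS : ∀ u ∈ S, y • u ∈ S) : Nat.card S ≡ Nat.card ↥{u | u ∈ S ∧ y • u = u} [MOD p] := by
  have hfin : IsOfFinOrder y := orderOf_pos_iff.1 (hy ▸ (Fact.out : p.Prime).pos)
  have hpow : ∀ (k : ℕ) (u : Ω), u ∈ S → y ^ k • u ∈ S := fun k => by
    induction k with
    | zero => intro u hu; simpa using hu
    | succ k ih => intro u hu; rw [pow_succ, mul_smul]; exact ih _ (hS u hu)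
  let M : SubMulAction ↥(Subgroup.zpowers y) Ω :=
    { carrier := S
      smul_mem' := fun z u hu => by
        obtain ⟨k, hk⟩ := hfin.mem_powers_iff_mem_zpowers.2 z.2
        show (z : G) • u ∈ S
        rw [← hk]
        exact hpow k u hu }
  have hp : IsPGroup p ↥(Subgroup.zpowers y) :=
    IsPGroup.of_card (n := 1) (by rw [Nat.card_zpowers, hy, pow_one])
  have h := hp.card_modEq_card_fixedPoints ↥M
  refine h.trans (congrArg (· % p) ?_)
  exact Nat.card_congr
    { toFun := fun u => ⟨u.1.1, u.1.2, congrArg Subtype.val (u.2 ⟨y, Subgroup.mem_zpowers y⟩)⟩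
      invFun := fun u => ⟨⟨u.1, u.2.1⟩, fun z => Subtype.ext (by
        obtain ⟨k, hk⟩ := hfin.mem_powers_iff_mem_zpowers.2 z.2
        show (z : G) • u.1 = u.1
        rw [← hk]
        show y ^ k • u.1 = u.1
        exact smul_pow_fix y k u.1 u.2.2)⟩
      left_inv := fun _ => rfl
      right_inv := fun _ => rfl }
where
  smul_pow_fix (y : G) (k : ℕ) (u : Ω) (hu : y • u = u) : y ^ k • u = u := by
    induction k with
    | zero => simp
    | succ k ih => rw [pow_succ, mul_smul, hu, ih]

/-- Every permutation is even. -/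
theorem sign_eq_one [Finite G] [IsSimpleGroup G] (hG : 2 < Nat.card G) [Fintype Ω] [DecidableEq Ω] (z : G) :
    Equiv.Perm.sign (MulAction.toPermHom G Ω z) = 1 := by
  set φ := Equiv.Perm.sign.comp (MulAction.toPermHom G Ω) with hφ
  rcases IsSimpleGroup.eq_bot_or_eq_top_of_normal φ.ker inferInstance with h | h
  · exfalso
    have := Nat.card_le_card_of_injective φ ((MonoidHom.ker_eq_bot_iff φ).1 h)
    have h2 : Nat.card ℤˣ = 2 := by rw [Nat.card_eq_fintype_card]; rfl
    omega
  · exact (h ▸ Subgroup.mem_top z : z ∈ φ.ker)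

/-- Degree twenty-five: an element of order thirteen fixes twelve points. -/
theorem not_twentyfive [Finite G] [FaithfulSMul G Ω] [Fintype Ω] (hG : Nat.card G = 17971200)
    (hn : Fintype.card Ω = 25) (ht : ∀ a b c d : Ω, a ≠ b → c ≠ d → ∃ g : G, g • a = c ∧ g • b = d) : False := by
  classical
  haveI : Fact (Nat.Prime 13) := ⟨by norm_num⟩
  obtain ⟨x, hx⟩ := exists_prime_orderOf_dvd_card' (G := G) 13 (by rw [hG]; norm_num)
  set Q := Subgroup.zpowers x with hQ
  set F := Finset.univ.filter fun u : Ω => x • u = u with hF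
  have hF12 : F.card = 12 := by
    have hm := card_invariant x hx (Set.univ : Set Ω) fun _ _ => trivial
    have h1 : Nat.card ↥{u : Ω | u ∈ Set.univ ∧ x • u = u} = F.card := by
      rw [← Nat.card_eq_finsetCard]
      exact Nat.card_congr (Equiv.subtypeEquivRight fun u => by simp [hF])
    rw [Nat.card_coe_set_eq, Set.ncard_univ, Nat.card_eq_fintype_card, hn, h1] at hm
    have hle : F.card < 25 := by
      rw [← hn]
      refine Finset.card_lt_univ_of_notMem (x := ?_) ?_
      · exact Classical.choose (show ∃ u : Ω, x • u ≠ u by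
          by_contra h
          have : x = 1 := FaithfulSMul.eq_of_smul_eq_smul (α := Ω) fun u => by
            rw [one_smul]; exact not_not.1 fun h' => h ⟨u, h'⟩
          rw [this, orderOf_one] at hx; norm_num at hx)
      · simp only [hF, Finset.mem_filter, Finset.mem_univ, true_and]
        exact Classical.choose_spec (p := fun u : Ω => x • u ≠ u) _
    have := hm.symm
    rw [Nat.ModEq] at this
    omega
  obtain ⟨a, ha, b, hb, hab⟩ := Finset.one_lt_card.1 (by rw [hF12]; norm_num : 1 < F.card)
  let N : Subgroup G := Subgroup.normalizer (Q : Set G)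
  have hQc : Nat.card Q = 13 := by rw [hQ, Nat.card_zpowers, hx]
  have horb : MulAction.orbit ↥N (a, b) = ↑F.offDiag := by
    ext ⟨c, d⟩
    simp only [Finset.mem_coe, Finset.mem_offDiag, hF, Finset.mem_filter, Finset.mem_univ, true_and,
      MulAction.mem_orbit_iff]
    constructor
    · rintro ⟨w, hw⟩
      obtain ⟨hc, hd⟩ := Prod.ext_iff.1 hw
      change (w : G) • a = c at hc
      change (w : G) • b = d at hd
      have hfix : ∀ u : Ω, x • u = u → x • ((w : G) • u) = (w : G) • u := by
        intro u hu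
        have hm : (w : G)⁻¹ * x * (w : G) ∈ Q :=
          (Subgroup.mem_normalizer_iff''.1 w.2 x).1 (Subgroup.mem_zpowers x)
        have hst : Q ≤ stabilizer G u := by rw [hQ, Subgroup.zpowers_le]; exact hu
        have h3 : ((w : G)⁻¹ * x * (w : G)) • u = u := hst hm
        rwa [mul_smul, mul_smul, inv_smul_eq_iff] at h3
      simp only [hF, Finset.mem_filter, Finset.mem_univ, true_and] at ha hb
      subst hc hd
      exact ⟨hfix a ha, hfix b hb, fun h => hab (smul_left_cancel _ h)⟩
    · rintro ⟨hc, hd, hcd⟩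
      simp only [hF, Finset.mem_filter, Finset.mem_univ, true_and] at ha hb
      obtain ⟨g, hga, hgb⟩ := ht a b c d hab hcd
      set H := stabilizer G c ⊓ stabilizer G d
      have hxH : x ∈ H := ⟨hc, hd⟩
      have hx'H : g * x * g⁻¹ ∈ H := by
        constructor
        · show (g * x * g⁻¹) • c = c
          rw [mul_smul, mul_smul, ← hga, inv_smul_smul, ha]
        · show (g * x * g⁻¹) • d = d
          rw [mul_smul, mul_smul, ← hgb, inv_smul_smul, hb]
      set x' : ↥H := ⟨g * x * g⁻¹, hx'H⟩ with hx'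
      have ho : orderOf x' = 13 := by
        rw [← Subgroup.orderOf_coe, ← hx]
        exact orderOf_injective (MulAut.conj g).toMonoidHom (MulAut.conj g).injective x
      have hnd : ¬ 13 ∣ (Subgroup.zpowers x').index := by
        intro hd'
        have h1 := (Subgroup.zpowers x').card_mul_index
        rw [Nat.card_zpowers, ho] at h1
        obtain ⟨q, hq⟩ := hd'
        have h2 := Subgroup.card_subgroup_dvd_card H
        rw [← h1, hG, hq] at h2
        have h3 : 13 * 13 ∣ 17971200 := dvd_trans ⟨q, by ring⟩ h2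
        norm_num at h3
      obtain ⟨w, hw⟩ := exists_conj_mem (Subgroup.zpowers x') hnd (y := (⟨x, hxH⟩ : ↥H))
        (by rw [← Subgroup.orderOf_coe]; exact hx)
      obtain ⟨j, hj⟩ := Subgroup.mem_zpowers_iff.1 hw
      have hj' : (w : G)⁻¹ * x * (w : G) = (g * x * g⁻¹) ^ j := by
        have := congrArg Subtype.val hj
        simpa [hx'] using this.symm
      have hmem : (w : G) * g ∈ N := by
        have h1 : (((w : G) * g)⁻¹) * x * ((w : G) * g) = x ^ j := by
          rw [show (((w : G) * g)⁻¹) * x * ((w : G) * g) = g⁻¹ * ((w : G)⁻¹ * x * (w : G)) * g by group, hj',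
            conj_zpow]
          group
        set v := (w : G) * g
        have hmap : Q.map (MulAut.conj v⁻¹).toMonoidHom = Q := by
          refine Subgroup.eq_of_le_of_card_ge ?_ ?_
          · rw [hQ, MonoidHom.map_zpowers, Subgroup.zpowers_le]
            refine ⟨j, ?_⟩
            show x ^ j = v⁻¹ * x * v⁻¹⁻¹
            rw [inv_inv, h1]
          · rw [Nat.card_congr (Q.equivMapOfInjective _ (MulEquiv.injective _)).toEquiv.symm]
        have hvi : v⁻¹ ∈ N := by
          refine Subgroup.mem_normalizer_iff.2 fun y => ⟨fun hy => hmap ▸ ⟨y, hy, rfl⟩, fun hy => ?_⟩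
          rw [← hmap] at hy
          obtain ⟨y', hy', e⟩ := hy
          exact (MulAut.conj v⁻¹).injective e ▸ hy'
        simpa using inv_mem hvi
      refine ⟨⟨_, hmem⟩, Prod.ext ?_ ?_⟩
      · show ((w : G) * g) • a = c
        rw [mul_smul, hga]; exact w.2.1
      · show ((w : G) * g) • b = d
        rw [mul_smul, hgb]; exact w.2.2
  have h1 : (stabilizer ↥N (a, b)).index = 132 := by
    rw [MulAction.index_stabilizer, horb, Set.ncard_coe_finset, Finset.offDiag_card, hF12]
  have h2 : 132 ∣ 17971200 := by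
    rw [← hG, ← h1]
    exact dvd_trans (Subgroup.index_dvd_card _) (Subgroup.card_subgroup_dvd_card N)
  norm_num at h2

/-- Degree twenty-six: the central involution would be an odd permutation. -/
theorem not_twentysix [Finite G] [IsSimpleGroup G] [FaithfulSMul G Ω] [Fintype Ω] (hG : Nat.card G = 17971200)
    (hn : Fintype.card Ω = 26) (hidx : ∀ a : Ω, (stabilizer G a).index = 26)
    (L : Subgroup G) (z : G) (hL : Nat.card L = 10240) (hz : orderOf z = 2) (hzc : ∀ y ∈ L, z * y = y * z)
    (hfix : ∀ y : G, orderOf y = 5 → Nat.card (fixedBy Ω y) = 1) : False := by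
  classical
  haveI : Fact (Nat.Prime 5) := ⟨by norm_num⟩
  obtain ⟨y, hy⟩ := exists_prime_orderOf_dvd_card' (G := ↥L) 5 (by rw [hL]; norm_num)
  have hy' : orderOf (y : G) = 5 := by rw [Subgroup.orderOf_coe, hy]
  obtain ⟨⟨a, ha⟩, huniq⟩ := (Nat.card_eq_one_iff_exists).1 (hfix _ hy')
  have only : ∀ u : Ω, (y : G) • u = u → u = a := fun u hu => congrArg Subtype.val (huniq ⟨u, hu⟩)
  have hza : z • a = a := only _ (by rw [← mul_smul, ← hzc _ y.2, mul_smul, ha])
  have h1mod : ∀ S : Set Ω, (∀ u ∈ S, (y : G) • u ∈ S) → a ∈ S → Nat.card S % 5 = 1 := by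
    intro S hS haS
    have h := card_invariant (y : G) hy' S hS
    have e : {u | u ∈ S ∧ (y : G) • u = u} = {a} :=
      Set.eq_singleton_iff_unique_mem.2 ⟨⟨haS, ha⟩, fun u hu => only u hu.2⟩
    rw [e, Nat.card_coe_set_eq {a}, Set.ncard_singleton] at h
    rw [Nat.ModEq] at h
    omega
  set O := MulAction.orbit ↥L a
  have hO1 : Nat.card O % 5 = 1 := by
    refine h1mod O ?_ (mem_orbit_self a)
    rintro - ⟨l, rfl⟩
    exact ⟨y * l, mul_smul y l a⟩
  have hOdvd : Nat.card O ∣ 10240 := by
    rw [← hL, Nat.card_coe_set_eq, ← MulAction.index_stabilizer]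
    exact Subgroup.index_dvd_card _
  have hOle : Nat.card O ≤ 26 := by
    rw [← hn, ← Nat.card_eq_fintype_card]; exact Finite.card_subtype_le _
  have hO16 : Nat.card O = 16 := by
    rcases (by decide : ∀ d ≤ 26, 10240 % d = 0 → d % 5 = 1 → d = 1 ∨ d = 16) _ hOle
      (Nat.mod_eq_zero_of_dvd hOdvd) hO1 with h | h
    · exfalso
      have hle : L ≤ stabilizer G a := by
        intro l hl
        haveI := (Nat.card_eq_one_iff_unique.1 h).1
        exact congrArg Subtype.val (Subsingleton.elim (⟨l • a, ⟨⟨l, hl⟩, rfl⟩⟩ : O) ⟨a, mem_orbit_self a⟩)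
      have hd := Subgroup.card_dvd_of_le hle
      have hc := (stabilizer G a).card_mul_index
      rw [hidx a, hG] at hc
      rw [hL, show Nat.card (stabilizer G a) = 691200 by omega] at hd
      norm_num at hd
    · exact h
  have hOz : O ⊆ fixedBy Ω z := by
    rintro - ⟨l, rfl⟩
    show z • ((l : G) • a) = (l : G) • a
    rw [← mul_smul, hzc _ l.2, mul_smul, hza]
  have hge : 16 ≤ Nat.card (fixedBy Ω z) := by
    rw [← hO16, Nat.card_coe_set_eq, Nat.card_coe_set_eq]
    exact Set.ncard_le_ncard hOz (Set.toFinite _)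
  have hmod : Nat.card (fixedBy Ω z) % 5 = 1 := by
    refine h1mod _ (fun u hu => ?_) hza
    show z • ((y : G) • u) = (y : G) • u
    rw [← mul_smul, hzc _ y.2, mul_smul, hu]
  set σ := MulAction.toPermHom G Ω z with hσ
  have hσo : orderOf σ = 2 := by
    rw [hσ, orderOf_injective _ MulAction.toPerm_injective, hz]
  obtain ⟨k, hk⟩ := Equiv.Perm.cycleType_prime_order (σ := σ) (by rw [hσo]; norm_num)
  rw [hσo] at hk
  have hsum : σ.support.card = 2 * (k + 1) := by
    rw [← Equiv.Perm.sum_cycleType, hk, Multiset.sum_replicate, smul_eq_mul, mul_comm]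
  have hsupp : Nat.card (fixedBy Ω z) + σ.support.card = 26 := by
    rw [← hn, Nat.card_coe_set_eq, Set.ncard_eq_toFinset_card']
    have e : (fixedBy Ω z).toFinset = σ.supportᶜ := by
      ext u; simp [hσ]
    rw [e, Finset.card_compl]
    have := Finset.card_le_univ σ.support
    omega
  have hsign : Equiv.Perm.sign σ = 1 := sign_eq_one (by rw [hG]; norm_num) z
  rw [Equiv.Perm.sign_of_cycleType, hk, Multiset.sum_replicate, Multiset.card_replicate, smul_eq_mul] at hsign
  have heven : Even ((k + 1) * 2 + (k + 1)) := by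
    rcases Nat.even_or_odd ((k + 1) * 2 + (k + 1)) with h | h
    · exact h
    · rw [h.neg_one_pow] at hsign; exact absurd hsign (by decide)
  obtain ⟨q, hq⟩ := heven
  omega

/-- No doubly transitive action of degree at least three. -/
theorem not_two_trans [Finite G] [IsSimpleGroup G] [FaithfulSMul G Ω] [Fintype Ω] (hG : Nat.card G = 17971200)
    (hΩ : 3 ≤ Fintype.card Ω) (P : Subgroup G) (a g : G) (hP : Nat.card P = 25) (hg : g ≠ 1) (hg3 : g ^ 3 = 1)
    (hgP : ∀ y ∈ P, g * y * g⁻¹ ∈ P)
    (hconj : ∀ y ∈ P, y ≠ 1 → ∃ h : G, ∃ k m : ℕ, h * a ^ k * h⁻¹ = y ∧ (a ^ k) ^ m = a)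
    (L : Subgroup G) (z : G) (hL : Nat.card L = 10240) (hz : orderOf z = 2) (hzc : ∀ y ∈ L, z * y = y * z) :
    ¬ MulAction.IsMultiplyPretransitive G Ω 2 := by
  intro h2t
  classical
  haveI : Fact (Nat.Prime 5) := ⟨by norm_num⟩
  haveI : Fact (Nat.Prime 3) := ⟨by norm_num⟩
  set n := Fintype.card Ω with hn
  have ht : ∀ a b c d : Ω, a ≠ b → c ≠ d → ∃ g : G, g • a = c ∧ g • b = d := fun a b c d h h' =>
    (MulAction.is_two_pretransitive_iff.1 h2t) h h'
  have hpt : IsPretransitive G Ω := MulAction.isPretransitive_of_is_two_pretransitive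
  have hidx : ∀ u : Ω, (stabilizer G u).index = n := fun u => by
    rw [index_stabilizer_of_transitive, Nat.card_eq_fintype_card]
  have hdvd : n * (n - 1) ∣ 17971200 := by
    obtain ⟨u, v, huv⟩ : ∃ u v : Ω, u ≠ v := Fintype.exists_pair_of_one_lt_card (by omega)
    have h := index_stabilizer_of_transitive (G := G) (Function.Embedding.embFinTwo huv)
    rw [Nat.card_eq_fintype_card, Fintype.card_embedding_eq, Fintype.card_fin, Nat.descFactorial_succ,
      Nat.descFactorial_one, Nat.mul_comm] at h
    rw [← hG, hn, ← h]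
    exact Subgroup.index_dvd_card _
  set f : G → ℕ := fun x => Nat.card (fixedBy Ω x) with hf
  have hf1 : ∀ y ∈ P, y ≠ 1 → f y = f a := fun y hy hy1 => by
    obtain ⟨h, k, m, rfl, hm⟩ := hconj y hy hy1
    show Nat.card _ = Nat.card _
    rw [card_fixed_conj, fixed_pow hm]
  obtain ⟨y₀, hy₀, hy₀1⟩ : ∃ y ∈ P, y ≠ 1 := by
    by_contra h
    have : P = ⊥ := by
      rw [Subgroup.eq_bot_iff_forall]
      intro y hy
      by_contra h'
      exact h ⟨y, hy, h'⟩
    rw [this, Subgroup.card_bot] at hP
    norm_num at hP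
  have hlt : ∀ x : G, x ≠ 1 → f x < n := fun x hx => by
    rw [hn, hf, ← Nat.card_eq_fintype_card]
    refine lt_of_le_of_ne (Finite.card_subtype_le _) fun he => hx ?_
    have : fixedBy Ω x = Set.univ := by
      refine Set.eq_univ_of_forall fun u => ?_
      by_contra hu
      have := Set.ncard_lt_card (s := fixedBy Ω x) (fun h => hu (h ▸ Set.mem_univ u))
      simp only [Nat.card_coe_set_eq] at he
      omega
    exact FaithfulSMul.eq_of_smul_eq_smul (α := Ω) fun u => by
      rw [one_smul]; exact (this.symm ▸ Set.mem_univ u : u ∈ fixedBy Ω x)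
  have hfa : f a < n := hf1 y₀ hy₀ hy₀1 ▸ hlt y₀ hy₀1
  haveI := Fintype.ofFinite ↥P
  have hburn : n + 24 * f a = 25 * Fintype.card (Quotient (orbitRel ↥P Ω)) := by
    have h := MulAction.sum_card_fixedBy_eq_card_orbits_mul_card_group ↥P Ω
    have hP' : Fintype.card ↥P = 25 := by rw [← Nat.card_eq_fintype_card, hP]
    rw [hP', ← Finset.add_sum_erase _ _ (Finset.mem_univ (1 : ↥P))] at h
    have h1 : Fintype.card (fixedBy Ω (1 : ↥P)) = n :=
      Fintype.card_congr ⟨Subtype.val, fun u => ⟨u, one_smul _ u⟩, fun _ => rfl, fun _ => rfl⟩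
    have h2 : ∀ x ∈ (Finset.univ : Finset ↥P).erase 1, Fintype.card (fixedBy Ω x) = f a := fun x hx => by
      rw [← Nat.card_eq_fintype_card, ← hf1 x.1 x.2 (fun e => by simp [Subtype.ext_iff, e] at hx)]
      rfl
    rw [h1, Finset.sum_congr rfl h2, Finset.sum_const, Finset.card_erase_of_mem (Finset.mem_univ (1 : ↥P))] at h
    simp [hP'] at h
    omega
  have hn25 : 25 ≤ n := by omega
  have hpfix : IsPGroup 5 ↥P := IsPGroup.of_card (n := 2) (by rw [hP]; norm_num)
  have horb5 : ∀ u : Ω, ¬ 25 ∣ 17971200 / n → 5 ≤ Nat.card (orbit ↥P u) := by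
    intro u h25
    obtain ⟨k, hk⟩ := hpfix.card_orbit u
    rcases Nat.eq_zero_or_pos k with rfl | hk0
    · exfalso
      have hle : P ≤ stabilizer G u := by
        intro x hx
        haveI := (Nat.card_eq_one_iff_unique.1 (hk.trans (pow_zero 5))).1
        exact congrArg Subtype.val (Subsingleton.elim
          (⟨x • u, ⟨⟨x, hx⟩, rfl⟩⟩ : orbit ↥P u) ⟨u, mem_orbit_self u⟩)
      have hd := Subgroup.card_dvd_of_le hle
      have hc := (stabilizer G u).card_mul_index
      rw [hidx u, hG] at hc
      rw [hP] at hd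
      refine h25 (hd.trans (dvd_of_eq ?_))
      rw [← hc, Nat.mul_div_cancel _ (by omega)]
    · rw [hk]; exact Nat.le_self_pow hk0.ne' 5
  have hsmall : n = 40 ∨ n = 65 → n + 24 * f a ≤ 5 * n := by
    intro h
    have hs : Fintype.card (Quotient (orbitRel ↥P Ω)) * 5 ≤ n := by
      rw [hn, Fintype.card_congr (MulAction.selfEquivSigmaOrbits ↥P Ω), Fintype.card_sigma]
      refine le_trans ?_ (Finset.card_nsmul_le_sum (Finset.univ : Finset (Quotient (orbitRel ↥P Ω))) _ 5 ?_)
      · simp
      · intro q _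
        rw [← Nat.card_eq_fintype_card]
        exact horb5 _ (by rcases h with h | h <;> rw [h] <;> norm_num)
    omega
  have hn4 : n < 4240 := by
    have hle := Nat.le_of_dvd (by norm_num) hdvd
    by_contra hge
    have : 4240 * 4239 ≤ n * (n - 1) := Nat.mul_le_mul (by omega) (by omega)
    omega
  rcases degrees n hn4 hn25 (Nat.mod_eq_zero_of_dvd hdvd) with h | h | h | h | h
  · exact not_twentyfive hG h ht
  · refine not_twentysix hG h (fun u => (hidx u).trans h) L z hL hz hzc fun y hy => ?_
    have hnd : ¬ 5 ∣ P.index := by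
      have hc := P.card_mul_index
      rw [hP, hG] at hc
      rw [show P.index = 718848 by omega]
      norm_num
    obtain ⟨w, hw⟩ := exists_conj_mem P hnd hy
    have hw1 : w⁻¹ * y * w ≠ 1 := fun e => by
      have : y = 1 := by
        have := congrArg (fun t => w * t * w⁻¹) e
        simpa [mul_assoc] using this
      rw [this, orderOf_one] at hy; norm_num at hy
    have := hf1 _ hw hw1
    rw [show f (w⁻¹ * y * w) = f y by
      have := card_fixed_conj (Ω := Ω) w⁻¹ y; rwa [inv_inv] at this] at this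
    show f y = 1
    omega
  · have hfix2 : f a = 2 := by omega
    have hsub : fixedPoints ↥P Ω ⊆ fixedBy Ω y₀ := fun u hu => hu ⟨y₀, hy₀⟩
    have hle : Nat.card (fixedPoints ↥P Ω) ≤ 2 := by
      rw [← hfix2, ← hf1 y₀ hy₀ hy₀1]
      show _ ≤ Nat.card (fixedBy Ω y₀)
      rw [Nat.card_coe_set_eq, Nat.card_coe_set_eq]
      exact Set.ncard_le_ncard hsub (Set.toFinite _)
    have hmod := hpfix.card_modEq_card_fixedPoints Ω
    rw [Nat.card_eq_fintype_card, ← hn, h, Nat.ModEq] at hmod
    have h2 : Nat.card (fixedPoints ↥P Ω) = 2 := by omega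
    rw [Nat.card_coe_set_eq, Set.ncard_eq_two] at h2
    obtain ⟨u, v, -, huv⟩ := h2
    have hg' : ∀ t ∈ fixedPoints ↥P Ω, g • t ∈ fixedPoints ↥P Ω := by
      intro t htP x
      have hcube : g * g * g = 1 := by rw [← pow_two, ← pow_succ]; exact hg3
      have hinv : g⁻¹ * (x : G) * g ∈ P := by
        have h4 := hgP _ (hgP _ x.2)
        have : g * (g * (x : G) * g⁻¹) * g⁻¹ = g⁻¹ * (x : G) * g := by
          have e : g⁻¹ = g * g := inv_eq_of_mul_eq_one_right (by rwa [← mul_assoc])
          calc g * (g * (x : G) * g⁻¹) * g⁻¹ = (g * g) * (x : G) * (g * g)⁻¹ := by group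
            _ = g⁻¹ * (x : G) * g := by rw [← e, inv_inv]
        rwa [this] at h4
      have := htP ⟨_, hinv⟩
      show (x : G) • g • t = g • t
      change (g⁻¹ * (x : G) * g) • t = t at this
      rwa [mul_smul, mul_smul, inv_smul_eq_iff] at this
    have hgu : g • u = u := by
      have h1 := hg' u (huv ▸ Set.mem_insert u {v})
      rw [huv] at h1
      rcases h1 with h1 | h1
      · exact h1
      have h2 := hg' v (huv ▸ Set.mem_insert_of_mem u (Set.mem_singleton v))
      rw [huv] at h2
      change g • u = v at h1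
      have hcube : g • g • g • u = u := by
        rw [← mul_smul, ← mul_smul, show g * g * g = g ^ 3 by rw [pow_succ, pow_two], hg3, one_smul]
      rcases h2 with h2 | h2
      · change g • v = u at h2
        rw [h1, h2] at hcube; exact hcube
      · change g • v = v at h2
        rw [h1, h2, h2] at hcube; rw [h1, hcube]
    have ho : orderOf g = 3 := orderOf_eq_prime hg3 hg
    have hd := (stabilizer G u).orderOf_dvd_natCard (x := g) hgu
    have hc := (stabilizer G u).card_mul_index
    rw [hidx u, hG, h] at hc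
    rw [ho, show Nat.card (stabilizer G u) = 665600 by omega] at hd
    norm_num at hd
  · have := hsmall (Or.inl h); omega
  · have := hsmall (Or.inr h); omega

end CfsgLib.Lie.TitsTwoTrans
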