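import Cfsg.Agent.Lib.Lie.Chev.Tits.Main
import Cfsg.Agent.Lib.Lie.BN

/-!
A subgroup of order `2 ^ 11 * 5` of the Tits group with a central involution.
-/

set_option autoImplicit false
set_option maxRecDepth 100000
set_option maxHeartbeats 400000

namespace CfsgLib.Lie.TitsTwoTrans

open Cfsg.Lie CfsgLib.Lie.Chev CfsgLib.Lie.Chev.Tits
open scoped MatrixGroups

theorem words_two : inX 1 11 = false ∧ swW 1 11 = [11] ∧ sqW.getD 11 [] = [] ∧ sqW.getD 1 [] = [3] ∧
    sqW.getD 3 [] = [] ∧ inX 1 1 = true ∧ inX 1 3 = true ∧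
    (∀ i < 12, cjW i 11 = [11]) ∧ ∀ j < 12, inX 1 j = true → j = 1 ∨ j = 3 := by
  decide +kernel

attribute [local irreducible] collect tT gen flat cjW kind TF4.C chevF4 swW mapTab inX oddGo ins

/-- The second orbit of simple roots. -/
noncomputable def o₁ : Fin orbGraphF4.no := TF4.o1

theorem o₁_val : (o₁ : ℕ) = 1 := rfl

/-- The distinguished involution of that orbit. -/
noncomputable def sΓ : ↥Γ := ⟨sw o₁, sw_mem o₁⟩

theorem sΓ_mem_S : sΓ ∈ twGp.bnPair.S := ⟨o₁, rfl⟩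

/-- Conjugation backwards differs from conjugation forwards by an element of the Borel subgroup. -/
theorem conj_back {G : Type*} [Group G] (B : Subgroup G) {s m : G} (h2 : s * s ∈ B) (hm : s * m * s⁻¹ ∈ B) :
    s⁻¹ * m * s ∈ B := by
  rw [show s⁻¹ * m * s = (s * s)⁻¹ * (s * m * s⁻¹) * (s * s) by group]
  exact mul_mem (mul_mem (inv_mem h2) hm) h2

theorem conj_forth {G : Type*} [Group G] (B : Subgroup G) {s m : G} (h2 : s * s ∈ B) (hm : s⁻¹ * m * s ∈ B) :
    s * m * s⁻¹ ∈ B := by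
  rw [show s * m * s⁻¹ = (s * s) * (s⁻¹ * m * s) * (s * s)⁻¹ by group]
  exact mul_mem (mul_mem h2 hm) (inv_mem h2)

/-- A group of the form `B ∪ B s B` in which four elements represent the cosets in the big cell. -/
theorem card_two_cells {G : Type*} [Group G] [Finite G] (B Q : Subgroup G) {s g : G} (hB : B ≤ Q) (hs : s ∈ Q)
    (hg : g ∈ B) (hQ : ∀ x ∈ Q, x ∈ B ∨ ∃ b ∈ B, ∃ c ∈ B, x = b * s * c) (hsB : s ∉ B) (hg4 : g ^ 4 = 1)
    (hdec : ∀ b ∈ B, ∃ i < 4, s⁻¹ * ((g ^ i)⁻¹ * b) * s ∈ B)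
    (hfree : ∀ k < 4, s⁻¹ * g ^ k * s ∈ B → k = 0) : Nat.card Q = 5 * Nat.card B := by
  classical
  let f : Option (Fin 4) → ↥Q ⧸ B.subgroupOf Q := fun o =>
    match o with
    | none => QuotientGroup.mk 1
    | some i => QuotientGroup.mk ⟨g ^ i.1 * s, mul_mem (pow_mem (hB hg) _) hs⟩
  have hf : Function.Bijective f := by
    refine ⟨?_, ?_⟩
    · have h0 : ∀ i : Fin 4, f none ≠ f (some i) := by
        intro i h
        have h' := Subgroup.mem_subgroupOf.1 (QuotientGroup.eq.1 h)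
        simp only [inv_one, one_mul] at h'
        exact hsB (by simpa using mul_mem (inv_mem (pow_mem hg i.1)) h')
      have h1 : ∀ i j : Fin 4, i.1 ≤ j.1 → f (some i) = f (some j) → i = j := by
        intro i j hij h
        have h' := Subgroup.mem_subgroupOf.1 (QuotientGroup.eq.1 h)
        simp only [Subgroup.coe_mul, Subgroup.coe_inv] at h'
        obtain ⟨d, hd⟩ := Nat.exists_eq_add_of_le hij
        have e : (g ^ i.1 * s)⁻¹ * (g ^ j.1 * s) = s⁻¹ * g ^ d * s := by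
          rw [hd, pow_add]; group
        rw [e] at h'
        have := hfree d (by omega) h'
        exact Fin.ext (by omega)
      rintro (_ | i) (_ | j) h
      · rfl
      · exact absurd h (h0 j)
      · exact absurd h.symm (h0 i)
      · rcases le_total i.1 j.1 with hij | hij
        · exact congrArg _ (h1 i j hij h)
        · exact congrArg _ (h1 j i hij h.symm).symm
    · intro q
      induction q using QuotientGroup.induction_on with
      | H x =>
        rcases hQ x x.2 with hx | ⟨b, hb, c, hc, hx⟩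
        · exact ⟨none, QuotientGroup.eq.2 (Subgroup.mem_subgroupOf.2 (by simpa using hx))⟩
        · obtain ⟨i, hi, hm⟩ := hdec b hb
          refine ⟨some ⟨i, hi⟩, QuotientGroup.eq.2 (Subgroup.mem_subgroupOf.2 ?_)⟩
          simp only [Subgroup.coe_mul, Subgroup.coe_inv, hx]
          have e : (g ^ i * s)⁻¹ * (b * s * c) = s⁻¹ * ((g ^ i)⁻¹ * b) * s * c := by group
          rw [e]
          exact mul_mem hm hc
  have h := (B.subgroupOf Q).index_mul_card
  rw [Subgroup.index_eq_card, ← Nat.card_eq_of_bijective f hf,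
    Nat.card_congr (Subgroup.subgroupOfEquivOfLe hB).toEquiv] at h
  simpa using h.symm

theorem g1_facts : g 1 ^ 4 = 1 ∧ g 1 ^ 2 ≠ 1 ∧ g 1 * g 1 = g 3 := by
  obtain ⟨-, -, -, h1, h3, -⟩ := words_two
  have e1 : g 1 * g 1 = g 3 := by rw [sq_eq (by norm_num), h1]; simp
  have e3 : g 3 * g 3 = 1 := by rw [sq_eq (by norm_num), h3]; simp
  refine ⟨?_, ?_, e1⟩
  · rw [show (4 : ℕ) = 2 * 2 from rfl, pow_mul, pow_two, pow_two, e1, e3]
  · rw [pow_two, e1]
    intro h
    exact g_not_mem (i := 3) (by norm_num) (h ▸ one_mem _)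

theorem Xo_one {c : GL chevF4.Idx (ZMod 2)} (hc : c ∈ Xo 1) : ∃ i < 4, c = g 1 ^ i := by
  obtain ⟨h4, -, e1⟩ := g1_facts
  have hle : Xo 1 ≤ Subgroup.zpowers (g 1) := by
    rw [Xo, Subgroup.closure_le]
    rintro - ⟨j, ⟨hj, hjo⟩, rfl⟩
    rcases words_two.2.2.2.2.2.2.2.2 j hj hjo with rfl | rfl
    · exact Subgroup.mem_zpowers _
    · exact ⟨2, by show g 1 ^ (2 : ℤ) = g 3; rw [← e1]; exact zpow_two _⟩
  obtain ⟨k, rfl⟩ := Subgroup.mem_zpowers_iff.1 (hle hc)
  refine ⟨(k % 4).toNat, by omega, ?_⟩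
  rw [← zpow_natCast, Int.toNat_of_nonneg (Int.emod_nonneg _ (by norm_num))]
  conv_lhs => rw [← Int.mul_ediv_add_emod k 4, zpow_add, zpow_mul]
  rw [show g 1 ^ (4 : ℤ) = 1 by rw [show (4 : ℤ) = ((4 : ℕ) : ℤ) from rfl, zpow_natCast, h4], one_zpow, one_mul]

/-- The subgroup. -/
theorem two_facts : ∃ (L : Subgroup TitsGroup) (z : TitsGroup), Nat.card L = 10240 ∧ orderOf z = 2 ∧
    ∀ y ∈ L, z * y = y * z := by
  haveI : Finite ↥Γ := Nat.finite_of_card_ne_zero (by rw [card_facts.2.2]; norm_num)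
  obtain ⟨hX11, hsw11, hsq11, -, -, hX1, -, hcj, -⟩ := words_two
  set P₁ := twGp.bnPair.parabolic {sΓ} with hP₁
  have hsS : ({sΓ} : Set ↥Γ) ⊆ twGp.bnPair.S := Set.singleton_subset_iff.2 sΓ_mem_S
  have hBP : B ≤ P₁ := BN.B_le_parabolic _ _
  have hsP : sΓ ∈ P₁ := Subgroup.mem_sup_right (Subgroup.subset_closure rfl)
  have hs2 : sΓ * sΓ ∈ B := twGp.bnPair.sq_mem _ sΓ_mem_S
  have hg1 : gΓ 1 ∈ B := mem_B.2 (by rw [gΓ_val (by norm_num)]; exact g_mem_Ks (Nat.zero_le _) (by norm_num))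
  have hgpow : ∀ i : ℕ, ((gΓ 1 ^ i : ↥Γ) : GL chevF4.Idx (ZMod 2)) = g 1 ^ i := fun i => by
    rw [SubmonoidClass.coe_pow, gΓ_val (by norm_num)]
  have hcard : Nat.card P₁ = 20480 := by
    rw [card_two_cells B P₁ hBP hsP hg1 ?_ (BN.not_mem_B _ sΓ_mem_S) ?_ ?_ ?_, card_B]
    · intro x hx
      obtain ⟨n, hn, hxn⟩ := (BN.mem_parabolic_iff _ hsS x).1 hx
      rw [← Subgroup.zpowers_eq_closure] at hn
      obtain ⟨k, rfl⟩ := Subgroup.mem_zpowers_iff.1 hn
      obtain ⟨b, hb, c, hc, rfl⟩ := (BN.mem_cell _).1 hxn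
      rcases Int.even_or_odd k with ⟨j, rfl⟩ | ⟨j, rfl⟩
      · refine Or.inl (mul_mem (mul_mem hb ?_) hc)
        rw [← two_mul, zpow_mul, zpow_two]
        exact zpow_mem hs2 j
      · refine Or.inr ⟨b, hb, sΓ⁻¹ * (sΓ ^ (2 * j + 1)) * c, mul_mem ?_ hc, by group⟩
        rw [show sΓ⁻¹ * sΓ ^ (2 * j + 1) = (sΓ * sΓ) ^ j by
          rw [← zpow_two, ← zpow_mul]; group]
        exact zpow_mem hs2 j
    · exact Subtype.ext (by rw [hgpow, g1_facts.1]; rfl)
    · intro b hb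
      obtain ⟨m, hm, c, hc, he⟩ := decomp (o := 1) (by norm_num) (mem_B.1 hb)
      obtain ⟨i, hi, hci⟩ := Xo_one hc
      refine ⟨i, hi, conj_back _ hs2 (mem_B.2 ?_)⟩
      have hm' : c⁻¹ * m * c⁻¹⁻¹ ∈ Mo 1 :=
        (Subgroup.mem_normalizer_iff.1 (Ks0_le_normalizer (by norm_num) (inv_mem (Xo_le 1 hc))) m).1 hm
      obtain ⟨h, -⟩ := sw_Mo o₁ (show c⁻¹ * m * c⁻¹⁻¹ ∈ Mo o₁.val by rw [o₁_val]; exact hm')
      rw [Subgroup.coe_mul, Subgroup.coe_mul, Subgroup.coe_inv, Subgroup.coe_mul, Subgroup.coe_inv, hgpow, ← hci, he]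
      convert h using 1
      show sw o₁ * (c⁻¹ * (m * c)) * (sw o₁)⁻¹ = sw o₁ * (c⁻¹ * m * c⁻¹⁻¹) * (sw o₁)⁻¹
      group
    · intro k hk h
      have h' := mem_B.1 (conj_forth _ hs2 h)
      rw [Subgroup.coe_mul, Subgroup.coe_mul, Subgroup.coe_inv, hgpow] at h'
      have hc : g 1 ^ k ∈ Xo o₁.val := pow_mem (Subgroup.subset_closure (Set.mem_image_of_mem g
        (show (1 : ℕ) < 12 ∧ inX o₁.val 1 = true from ⟨by norm_num, by rw [o₁_val]; exact hX1⟩))) k
      have h1 : sw o₁ * g 1 ^ k * (sw o₁)⁻¹ = 1 := Subgroup.mem_bot.1 (TF4.C.G.U_inf_V_eq (K := ZMod 2) ▸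
        Subgroup.mem_inf.2 ⟨Ks0_le_pos h', sw_Xo o₁ hc⟩)
      rw [conj_eq_one_iff] at h1
      obtain ⟨h4, hne, -⟩ := g1_facts
      interval_cases k
      · rfl
      · exact absurd (by rw [pow_one] at h1; rw [h1, one_pow]) hne
      · exact absurd h1 hne
      · refine absurd ?_ hne
        have hg : g 1 = 1 := by
          have := h4; rw [pow_succ, h1, one_mul] at this; exact this
        rw [hg, one_pow]
  have hz2 : g 11 * g 11 = 1 := by rw [sq_eq (by norm_num), hsq11]; simp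
  have hzne : g 11 ≠ 1 := fun h => g_not_mem (i := 11) (by norm_num) (h ▸ one_mem _)
  have hzo : orderOf (gΓ 11) = 2 := by
    rw [orderOf_eq_prime_iff]
    exact ⟨Subtype.ext (by rw [SubmonoidClass.coe_pow, gΓ_val (by norm_num), pow_two]; exact hz2),
      fun h => hzne (by rw [← gΓ_val (by norm_num : (11 : ℕ) < 12), h]; rfl)⟩
  have hzT := involution_mem _ hzo
  have hKs : ∀ y ∈ Ks 0, g 11 * y = y * g 11 := by
    intro y hy
    have hle : Ks 0 ≤ Subgroup.centralizer {g 11} := by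
      rw [Ks, Subgroup.closure_le]
      rintro - ⟨i, ⟨-, hi⟩, rfl⟩
      rw [SetLike.mem_coe, Subgroup.mem_centralizer_singleton_iff]
      have := conj_eq hi (j := 11) (by norm_num)
      rw [hcj i hi] at this
      simp only [List.map_cons, List.map_nil, List.prod_cons, List.prod_nil, mul_one] at this
      exact (mul_inv_eq_iff_eq_mul.1 this)
    exact (Subgroup.mem_centralizer_singleton_iff.1 (hle hy)).symm
  have hs11 : sw o₁ * g 11 * (sw o₁)⁻¹ = g 11 := by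
    rcases chk_swap o₁.val (o_lt o₁) 11 (by norm_num) with ⟨h, -⟩ | ⟨-, hp, he, -, hlt⟩
    · rw [o₁_val, hX11] at h; exact absurd h (by decide)
    have hlt' : ∀ k ∈ swW o₁.val 11, k < 12 := fun k hk => of_decide_eq_true (List.all_eq_true.1 hlt k hk)
    calc sw o₁ * g 11 * (sw o₁)⁻¹ = ((swW o₁.val 11).map g).prod := by
          rw [g, sw_ev o₁ _ (gen_pos (by norm_num)), ← ev_flat]
          exact ev_eq (fun x hx => of_decide_eq_true (List.all_eq_true.1 hp x hx)) (flat_pos hlt') he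
      _ = g 11 := by rw [o₁_val, hsw11]; simp
  have hcent : P₁ ≤ Subgroup.centralizer {gΓ 11} := by
    refine sup_le (fun x hx => ?_) ((Subgroup.closure_le _).2 ?_)
    · rw [Subgroup.mem_centralizer_singleton_iff]
      refine Subtype.ext ?_
      rw [Subgroup.coe_mul, Subgroup.coe_mul, gΓ_val (by norm_num)]
      exact (hKs _ (mem_B.1 hx)).symm
    · rw [Set.singleton_subset_iff, SetLike.mem_coe, Subgroup.mem_centralizer_singleton_iff]
      refine Subtype.ext ?_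
      rw [Subgroup.coe_mul, Subgroup.coe_mul, gΓ_val (by norm_num)]
      exact mul_inv_eq_iff_eq_mul.1 hs11
  obtain ⟨hidx, -, -, -, hmem⟩ := Chev.Tits.main
  have hne : ¬ P₁ ≤ commutator ↥Γ := by
    intro hle
    have hb : gΓ 4 ∈ B := mem_B.2 (by rw [gΓ_val (by norm_num)]; exact g_mem_Ks (Nat.zero_le _) (by norm_num))
    have h := (hmem ⟨gΓ 4, hb⟩).1 (hle (hBP hb))
    have e : toK ⟨gΓ 4, hb⟩ = ⟨g 4, g_mem_Ks (Nat.zero_le _) (by norm_num)⟩ := Subtype.ext (gΓ_val (by norm_num))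
    change χ0 (toK ⟨gΓ 4, hb⟩) = 1 at h
    rw [e, χ0_g (by norm_num), words_eval.2.2.2.2.2.2.2.2.2.2.2.2.2.2.2] at h
    exact sgn_true_ne h
  refine ⟨P₁.subgroupOf (commutator ↥Γ), ⟨gΓ 11, hzT⟩, ?_, by rw [Subgroup.orderOf_mk, hzo],
    fun y hy => Subtype.ext (Subgroup.mem_centralizer_singleton_iff.1 (hcent (Subgroup.mem_subgroupOf.1 hy))).symm⟩
  have hrel : (commutator ↥Γ).relIndex P₁ = 2 := by
    have hd := Subgroup.relIndex_dvd_index_of_normal (commutator ↥Γ) P₁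
    rw [hidx] at hd
    rcases (Nat.dvd_prime Nat.prime_two).1 hd with h | h
    · exact absurd (Subgroup.relIndex_eq_one.1 h) hne
    · exact h
  have h1 := ((commutator ↥Γ).subgroupOf P₁).card_mul_index
  rw [← Subgroup.relIndex, hrel, hcard] at h1
  have h2 : Nat.card ↥((commutator ↥Γ).subgroupOf P₁) = Nat.card ↥(P₁.subgroupOf (commutator ↥Γ)) :=
    Nat.card_congr
      { toFun := fun x => ⟨⟨x.1.1, x.2⟩, x.1.2⟩
        invFun := fun x => ⟨⟨x.1.1, x.2⟩, x.1.2⟩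
        left_inv := fun _ => rfl
        right_inv := fun _ => rfl }
  rw [h2] at h1
  exact Nat.eq_of_mul_eq_mul_right (by norm_num : 0 < 2) (h1.trans (by norm_num))

end CfsgLib.Lie.TitsTwoTrans
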